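import Groth.Agent.RhoVanLib.Pred
import Groth.Agent.PdFlat.Sheaf
import Groth.Agent.FibreDepth.AssScheme
import Groth.Agent.QuotRepLib.FlatPull
import Groth.Agent.FlatStratLib.Uniform
import Groth.Agent.FittStratum.Main
import Groth.Agent.SuppLib.Basic
import Groth.Agent.DCohLib.FlatPerf
import Groth.Agent.PullbackMod.SuppClosed
import Groth.Agent.PCHomLib.Flat
import Groth.Agent.DCohLib.Pullback

/-!
With a flat cokernel, the vanishing locus is clopen; vanishing extends over valuation rings.
-/

set_option autoImplicit false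
set_option backward.isDefEq.respectTransparency false
set_option backward.defeqAttrib.useBackward true
set_option linter.style.haveILetI false

universe u

open CategoryTheory CategoryTheory.Limits AlgebraicGeometry TopologicalSpace Opposite
open Groth.Agent.PullbackMod

noncomputable section

namespace Groth.Agent.RhoVan

variable {Y S : Scheme.{u}} (q : Y ⟶ S)

/-- The image of the support of a flat finitely presented module is open. -/
theorem isOpen_image_support_flat [LocallyOfFinitePresentation q] (K : Y.Modules) [Coh.IsQCoh K]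
    (hK : CohB1.IsFP K) (hfl : FlatMod.IsFlatOver q K) : IsOpen (q.base '' CohB1.support K) := by
  have hKt : CohB1.IsFT K := by
    haveI : SheafOfModules.IsFinitePresentation (R := Y.ringCatSheaf) K := hK
    infer_instance
  have hs : ∀ x, x ∈ CohB1.support K ↔ FibreDepth.fiberSupp q K x ≠ ⊥ := fun x => by
    rw [← FibreDepth.fiberSupp_ne_bot_iff q K hK x, ← not_subsingleton_iff_nontrivial]
    have h := Set.ext_iff.1 (SuppLib.support_pullback (q.fiberι (q.base x)) K hKt) (q.asFiber x)
    rw [Set.mem_preimage] at h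
    refine Iff.trans ?_ h.symm
    rw [Scheme.Hom.fiberι_asFiber]
  have hset : q.base '' CohB1.support K =
      ⋃ n : ℕ, q.base '' {x | FibreDepth.fiberSupp q K x = 0 ∧ FibreDepth.clDim q x = (n : WithBot ℕ∞)} := by
    ext s
    simp only [Set.mem_image, Set.mem_iUnion, Set.mem_ofPred_eq]
    constructor
    · rintro ⟨x, hx, rfl⟩
      obtain ⟨x', -, hb, h0⟩ := FibreDepth.exists_min_fibre q K hK x ((hs x).1 hx)
      obtain ⟨𝔐, z, rfl⟩ := FibreDepth.exists_model q K hK x'
      obtain ⟨d, t, -, ht, -⟩ := 𝔐.exists_dims z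
      exact ⟨t, _, ⟨h0, ht⟩, hb⟩
    · rintro ⟨n, x, ⟨h0, -⟩, rfl⟩
      exact ⟨x, (hs x).2 (h0.trans_ne WithBot.zero_ne_bot), rfl⟩
  rw [hset]
  exact isOpen_iUnion fun n =>
    FibreDepth.isOpen_image_min (fun x => FibreDepth.exists_model q K hK x) hfl n

theorem isFlatOver_kernel {T : ShortComplex Y.Modules} (hT : T.ShortExact) (h2 : FlatMod.IsFlatOver q T.X₂)
    (h3 : FlatMod.IsFlatOver q T.X₃) : FlatMod.IsFlatOver q T.X₁ := by
  intro x
  letI := FlatMod.moduleStalkOver q T.X₁ x
  letI := FlatMod.moduleStalkOver q T.X₂ x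
  letI := FlatMod.moduleStalkOver q T.X₃ x
  haveI := hT.mono_f
  haveI := hT.epi_g
  haveI : Module.Flat (S.presheaf.stalk (q.base x)) (T.X₂.presheaf.stalk x) := h2 x
  haveI : Module.Flat (S.presheaf.stalk (q.base x)) (T.X₃.presheaf.stalk x) := h3 x
  let a := stalkLin T.f x
  let b := stalkLin T.g x
  exact PCHomLib.flat_of_exact_right
    ({ toFun := a, map_add' := map_add a, map_smul' := fun r z => map_smul a (q.stalkMap x r) z } :
      T.X₁.presheaf.stalk x →ₗ[S.presheaf.stalk (q.base x)] T.X₂.presheaf.stalk x)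
    ({ toFun := b, map_add' := map_add b, map_smul' := fun r z => map_smul b (q.stalkMap x r) z } :
      T.X₂.presheaf.stalk x →ₗ[S.presheaf.stalk (q.base x)] T.X₃.presheaf.stalk x)
    ((mono_iff_stalk T.f).1 inferInstance x) ((epi_iff_stalk T.g).1 inferInstance x)
    (DCohLib.exact_stalkLin T hT.exact x)

/-- With a flat cokernel, vanishing is a clopen condition. -/
theorem exists_clopen [IsProper q] [LocallyOfFinitePresentation q] {M F : Y.Modules} (τ : M ⟶ F)
    [Coh.IsQCoh M] [Coh.IsQCoh F] (hMt : CohB1.IsFT M) (hF : CohB1.IsFP F) (hFfl : FlatMod.IsFlatOver q F)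
    (hfl : FlatMod.IsFlatOver q (cokernel τ)) :
    ∃ U : S.Opens, IsClosed (U : Set S) ∧
      ∀ ⦃T : Scheme.{u}⦄ (v : T ⟶ S), Set.range v.base ⊆ (U : Set S) ↔ Van q τ v := by
  let π := cokernel.π τ
  haveI hQ : Coh.IsQCoh (cokernel τ) := (QCohLib.isQCoh_image τ inferInstance inferInstance).2
  have hQp : CohB1.IsFP (cokernel τ) := DCohLib.isFP_cokernel τ inferInstance inferInstance hMt hF
  haveI hKq : Coh.IsQCoh (kernel π) := (QCohLib.isQCoh_image π inferInstance hQ).1
  have hKp : CohB1.IsFP (kernel π) :=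
    PdFlat.isFP_kernel_of_epi_onto_flat q F (cokernel τ) hF hQp hfl π
  have hKt : CohB1.IsFT (kernel π) := by
    haveI : SheafOfModules.IsFinitePresentation (R := Y.ringCatSheaf) (kernel π) := hKp
    infer_instance
  let ε : M ⟶ kernel π := kernel.lift π τ (cokernel.condition τ)
  haveI : Epi ε := inferInstanceAs (Epi (Abelian.factorThruImage τ))
  have hε : ε ≫ kernel.ι π = τ := kernel.lift_ι _ _ _
  let Tc : ShortComplex Y.Modules := ShortComplex.mk (kernel.ι π) π (kernel.condition π)
  have hT : Tc.ShortExact :=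
    ShortComplex.ShortExact.mk' (ShortComplex.exact_of_f_is_kernel _ (kernelIsKernel _)) inferInstance inferInstance
  have hKfl : FlatMod.IsFlatOver q (kernel π) := isFlatOver_kernel q hT hFfl hfl
  let C := q.base '' CohB1.support (kernel π)
  have hCc : IsClosed C := q.isClosedMap _ (PullbackMod.isClosed_support_of_isFT hKt)
  refine ⟨⟨Cᶜ, hCc.isOpen_compl⟩, (isOpen_image_support_flat q (kernel π) hKp hKfl).isClosed_compl, fun T v => ?_⟩
  haveI : Coh.IsQCoh Tc.X₁ := hKq
  haveI : Coh.IsQCoh Tc.X₂ := inferInstanceAs (Coh.IsQCoh F)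
  haveI : Coh.IsQCoh Tc.X₃ := hQ
  let g := pullback.fst q v
  haveI : Mono ((Scheme.Modules.pullback g).map (kernel.ι π)) :=
    QuotRep.mono_pullback_of_flat (IsPullback.of_hasPullback q v) hT hfl
  haveI : (Scheme.Modules.pullback g).IsLeftAdjoint :=
    (Scheme.Modules.pullbackPushforwardAdjunction _).isLeftAdjoint
  have hsup := SuppLib.support_pullback g (kernel π) hKt
  show _ ↔ (Scheme.Modules.pullback g).map τ = 0
  rw [← hε, Functor.map_comp]
  constructor
  · intro hr
    suffices hz : IsZero ((Scheme.Modules.pullback g).obj (kernel π)) by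
      rw [hz.eq_of_tgt ((Scheme.Modules.pullback g).map ε) 0, zero_comp]
    refine DCohLib.isZero_of_stalks fun x => ?_
    by_contra hx
    have hx' : x ∈ CohB1.support ((Scheme.Modules.pullback g).obj (kernel π)) := hx
    rw [hsup] at hx'
    refine hr ⟨pullback.snd q v x, rfl⟩ ⟨g x, hx', ?_⟩
    rw [← Scheme.Hom.comp_apply, pullback.condition, Scheme.Hom.comp_apply]
  · intro h
    have hz : IsZero ((Scheme.Modules.pullback g).obj (kernel π)) := by
      have h1 : (Scheme.Modules.pullback g).map (kernel.ι π) = 0 :=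
        (cancel_epi ((Scheme.Modules.pullback g).map ε)).1 (h.trans comp_zero.symm)
      rw [IsZero.iff_id_eq_zero]
      exact (cancel_mono ((Scheme.Modules.pullback g).map (kernel.ι π))).1
        (by rw [Category.id_comp, zero_comp, h1])
    rintro _ ⟨t, rfl⟩ ⟨y, hy, hyt⟩
    obtain ⟨x, rfl, -⟩ := Scheme.exists_preimage_of_isPullback (IsPullback.of_hasPullback q v) y t hyt
    have hx : x ∈ CohB1.support ((Scheme.Modules.pullback g).obj (kernel π)) := by rw [hsup]; exact hy
    exact hx (DCohLib.subsingleton_stalk_of_isZero hz x)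

/-- Vanishing extends from the generic point of a valuation ring. -/
theorem van_valuation {M F : Y.Modules} (τ : M ⟶ F) [Coh.IsQCoh M] [Coh.IsQCoh F] (hfl : FlatMod.IsFlatOver q F)
    {R K : Type u} [CommRing R] [IsDomain R] [Field K] [Algebra R K] [IsFractionRing R K]
    (u : Spec (CommRingCat.of R) ⟶ S) (h : Van q τ (Spec.map (CommRingCat.ofHom (algebraMap R K)) ≫ u)) :
    Van q τ u := by
  let g₀ := pullback.fst q u
  let f := pullback.snd q u
  haveI : Coh.IsQCoh ((Scheme.Modules.pullback g₀).obj M) := PullbackMod.isQCoh_pullback g₀ M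
  haveI : Coh.IsQCoh ((Scheme.Modules.pullback g₀).obj F) := PullbackMod.isQCoh_pullback g₀ F
  let φ := (Scheme.Modules.pullback g₀).map τ
  let N := (Scheme.Modules.pullback g₀).obj F
  have hN : FlatMod.IsFlatOver f N := fun y =>
    PullbackMod.isFlatOverAt_baseChange (IsPullback.of_hasPullback q u) F y (hfl _)
  let j := Spec.map (CommRingCat.ofHom (algebraMap R K))
  have hc := IsPullback.of_hasPullback f j
  have hj : (Scheme.Modules.pullback (pullback.fst f j)).map φ = 0 := (van_bc q τ (IsPullback.of_hasPullback q u) j).2 h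
  show φ = 0
  refine (eq_zero_iff_stalk _).2 fun y => LinearMap.ext fun z => ?_
  obtain ⟨O, hyO, s₀, rfl⟩ := TopCat.Presheaf.exists_germ_eq _ z
  obtain ⟨_, ⟨W : (pullback q u).Opens, (hW : IsAffineOpen W), rfl⟩, hyW, hWO'⟩ :=
    (pullback q u).isBasis_affineOpens.exists_subset_of_mem_open hyO O.isOpen
  have hWO : W ≤ O := hWO'
  rw [← TopCat.Presheaf.germ_res_apply _ (homOfLE hWO) y hyW s₀, LinearMap.zero_apply, stalkLin_germ]
  let s := (((Scheme.Modules.pullback g₀).obj M).presheaf.map (homOfLE hWO).op) s₀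
  suffices ht : φ.app W s = 0 from (congrArg _ ht).trans (map_zero _)
  have e : W ≤ f ⁻¹ᵁ (⊤ : (Spec (CommRingCat.of R)).Opens) := le_top
  have e' : (⊤ : (Spec (CommRingCat.of K)).Opens) ≤ j ⁻¹ᵁ (⊤ : (Spec (CommRingCat.of R)).Opens) := le_top
  obtain ⟨hW', hpo⟩ := isPushout_appLE hc (isAffineOpen_top _) hW (isAffineOpen_top _) e e'
  let g' := pullback.fst f j
  let W' := g' ⁻¹ᵁ W ⊓ (pullback.snd f j) ⁻¹ᵁ (⊤ : (Spec (CommRingCat.of K)).Opens)
  let A := Γ(Spec (CommRingCat.of R), ⊤)
  let A' := Γ(Spec (CommRingCat.of K), ⊤)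
  letI : Algebra A Γ(pullback q u, W) := (f.appLE ⊤ W e).hom.toAlgebra
  letI : Algebra A A' := (j.appLE ⊤ ⊤ e').hom.toAlgebra
  letI : Algebra Γ(pullback q u, W) Γ(pullback f j, W') := (g'.appLE W W' inf_le_left).hom.toAlgebra
  letI : Algebra A' Γ(pullback f j, W') := ((pullback.snd f j).appLE ⊤ W' inf_le_right).hom.toAlgebra
  letI : Algebra A Γ(pullback f j, W') := ((g'.appLE W W' inf_le_left).hom.comp (f.appLE ⊤ W e).hom).toAlgebra
  haveI : IsScalarTower A Γ(pullback q u, W) Γ(pullback f j, W') := .of_algebraMap_eq fun _ => rfl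
  haveI : IsScalarTower A A' Γ(pullback f j, W') := .of_algebraMap_eq' (by
    show ((f.appLE ⊤ W e) ≫ g'.appLE W _ inf_le_left).hom =
      ((j.appLE ⊤ ⊤ e') ≫ (pullback.snd f j).appLE ⊤ _ inf_le_right).hom
    simp only [Scheme.Hom.appLE_comp_appLE, hc.w]
    exact congrArg CommRingCat.Hom.hom (by congr 1; exact hc.w))
  haveI : Algebra.IsPushout A A' Γ(pullback q u, W) Γ(pullback f j, W') := hpo
  letI : Module A Γ(N, W) := Module.compHom _ (f.appLE ⊤ W e).hom
  haveI : IsScalarTower A Γ(pullback q u, W) Γ(N, W) := .of_algebraMap_smul fun _ _ => rfl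
  haveI : Module.Flat A Γ(N, W) := GenBCLib.flat_sections_over f N hN (isAffineOpen_top _) hW e
  letI : Module Γ(pullback q u, W) Γ((Scheme.Modules.pullback g').obj N, W') :=
    Module.compHom _ (g'.appLE W W' inf_le_left).hom
  haveI : IsScalarTower Γ(pullback q u, W) Γ(pullback f j, W') Γ((Scheme.Modules.pullback g').obj N, W') :=
    .of_algebraMap_smul fun _ _ => rfl
  have h1 := isBaseChange_pullMapL g' N hW hW' (inf_le_left : W' ≤ g' ⁻¹ᵁ W)
  have hz : pullMap g' N (inf_le_left : W' ≤ g' ⁻¹ᵁ W) (φ.app W s) = 0 := by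
    rw [← pullMap_natural g' φ (inf_le_left : W' ≤ g' ⁻¹ᵁ W) s, hj]
    rfl
  have h2 : ((1 : Γ(pullback f j, W')) ⊗ₜ[Γ(pullback q u, W)] φ.app W s) = 0 := by
    apply h1.equiv.injective
    rw [IsBaseChange.equiv_tmul, one_smul, map_zero]
    exact hz
  have h3 := congrArg (Algebra.IsPushout.cancelBaseChange A A' Γ(pullback q u, W) Γ(pullback f j, W') Γ(N, W)) h2
  rw [Algebra.IsPushout.cancelBaseChange_tmul, map_zero] at h3
  have hinjA : Function.Injective (Algebra.linearMap A A') := by
    show Function.Injective (j.appLE ⊤ ⊤ e').hom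
    have hnat := Scheme.ΓSpecIso_inv_naturality (CommRingCat.ofHom (algebraMap R K))
    intro a b hab
    obtain ⟨a, rfl⟩ := (ConcreteCategory.bijective_of_isIso (Scheme.ΓSpecIso (CommRingCat.of R)).inv).2 a
    obtain ⟨b, rfl⟩ := (ConcreteCategory.bijective_of_isIso (Scheme.ΓSpecIso (CommRingCat.of R)).inv).2 b
    have happ : j.appLE ⊤ ⊤ e' = j.appTop := (Scheme.Hom.app_eq_appLE j).symm
    have key : ∀ r : R, (j.appLE ⊤ ⊤ e').hom ((Scheme.ΓSpecIso (CommRingCat.of R)).inv r) =
        (Scheme.ΓSpecIso (CommRingCat.of K)).inv (algebraMap R K r) := fun r => by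
      rw [happ]
      exact congr(($hnat) r).symm
    rw [key, key] at hab
    exact congrArg _ (IsFractionRing.injective R K
      ((ConcreteCategory.bijective_of_isIso (Scheme.ΓSpecIso (CommRingCat.of K)).inv).1 hab))
  have h4 := Module.Flat.rTensor_preserves_injective_linearMap (M := Γ(N, W)) (Algebra.linearMap A A') hinjA
  refine (TensorProduct.lid A Γ(N, W)).symm.injective ?_
  refine h4 ?_
  rw [map_zero, map_zero, TensorProduct.lid_symm_apply, LinearMap.rTensor_tmul, Algebra.linearMap_apply, map_one]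
  exact h3

end Groth.Agent.RhoVan
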