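import Groth.Agent.RhoVanLib.Kernel
import Groth.Agent.PureRepLib.Proper
import Mathlib.AlgebraicGeometry.ValuativeCriterion
import Mathlib.AlgebraicGeometry.ZariskisMainTheorem

/-!
The vanishing locus of a map to a flat finitely presented module on a proper scheme is a closed subscheme.
-/

set_option autoImplicit false
set_option backward.isDefEq.respectTransparency false
set_option backward.defeqAttrib.useBackward true
set_option linter.style.haveILetI false

universe u

open CategoryTheory CategoryTheory.Limits AlgebraicGeometry TopologicalSpace Opposite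
open Groth.Agent.PullbackMod

noncomputable section

namespace Groth.Agent.RhoVan

variable {Y S : Scheme.{u}} (q : Y ⟶ S)

theorem isFlatOver_of_PX {Q : Y.Modules} {T : Scheme.{u}} (u : T ⟶ S) (h : PureRep.PX q Q 0 u) :
    FlatMod.IsFlatOver (pullback.snd q u) ((Scheme.Modules.pullback (pullback.fst q u)).obj Q) := fun x => by
  by_contra hx
  have := h x hx
  simp only [Nat.cast_zero] at this
  exact not_lt_zero this

theorem PX_zero_of_van {M F : Y.Modules} (τ : M ⟶ F) [Coh.IsQCoh F] (hfl : FlatMod.IsFlatOver q F)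
    {T : Scheme.{u}} (u : T ⟶ S) (h : Van q τ u) : PureRep.PX q (cokernel τ) 0 u := by
  let g := pullback.fst q u
  let P := Scheme.Modules.pullback g
  haveI : P.IsLeftAdjoint := (Scheme.Modules.pullbackPushforwardAdjunction g).isLeftAdjoint
  haveI : IsIso (cokernel.π (P.map τ)) := cokernel.π_of_zero (f := P.map τ) h
  let e : P.obj F ≅ P.obj (cokernel τ) := asIso (cokernel.π (P.map τ)) ≪≫ (PreservesCokernel.iso P τ).symm
  intro x hx
  exact absurd (PullbackMod.isFlatOverAt_of_iso e _ x
    (PullbackMod.isFlatOverAt_baseChange (IsPullback.of_hasPullback q u) F x (hfl _))) hx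

/-- The case of a module of finite type over an affine base. -/
theorem repClosed_ft {A : Type u} [CommRing A] (q : Y ⟶ Spec (CommRingCat.of A)) [IsProper q]
    [LocallyOfFinitePresentation q] {M F : Y.Modules} (τ : M ⟶ F) [Coh.IsQCoh M] [Coh.IsQCoh F]
    (hMt : CohB1.IsFT M) (hF : CohB1.IsFP F) (hfl : FlatMod.IsFlatOver q F) :
    RepClosed (Van q τ) (𝟙 (Spec (CommRingCat.of A))) := by
  haveI hQq : Coh.IsQCoh (cokernel τ) := (QCohLib.isQCoh_image τ inferInstance inferInstance).2
  have hQp : CohB1.IsFP (cokernel τ) := DCohLib.isFP_cokernel τ inferInstance inferInstance hMt hF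
  obtain ⟨Z₁, e, he1, he2, he3, he4⟩ := PureRep.repMono_of_proper (cokernel τ) q hQp 0
  haveI := he1
  haveI := he2
  haveI := he3
  let g₁ := pullback.fst q e
  let q₁ := pullback.snd q e
  haveI : IsProper q₁ := MorphismProperty.pullback_snd _ _ ‹IsProper q›
  haveI : LocallyOfFinitePresentation q₁ := MorphismProperty.pullback_snd _ _ ‹LocallyOfFinitePresentation q›
  haveI := PullbackMod.isQCoh_pullback g₁ M
  haveI := PullbackMod.isQCoh_pullback g₁ F
  haveI : (Scheme.Modules.pullback g₁).IsLeftAdjoint :=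
    (Scheme.Modules.pullbackPushforwardAdjunction g₁).isLeftAdjoint
  let τ₁ := (Scheme.Modules.pullback g₁).map τ
  have hQfl : FlatMod.IsFlatOver q₁ (cokernel τ₁) := fun x =>
    PullbackMod.isFlatOverAt_of_iso (PreservesCokernel.iso (Scheme.Modules.pullback g₁) τ) _ x
      (isFlatOver_of_PX q e (by
        have := (he4 Z₁ e).1 ⟨𝟙 _, Category.id_comp _⟩
        rwa [Category.comp_id] at this) x)
  obtain ⟨U, hUc, hU⟩ := exists_clopen q₁ τ₁ (FittStratum.isFT_pullback M hMt g₁)
    (PullbackMod.isFP_pullback _ F hF)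
    (fun x => PullbackMod.isFlatOverAt_baseChange (IsPullback.of_hasPullback q e) F x (hfl _)) hQfl
  haveI : IsClosedImmersion U.ι := IsClosedImmersion.of_isPreimmersion U.ι (by rw [Scheme.Opens.range_ι]; exact hUc)
  let e' := U.ι ≫ e
  have huniv : ∀ (T : Scheme.{u}) (v : T ⟶ Spec (CommRingCat.of A)), (∃ v' : T ⟶ U, v' ≫ e' = v) ↔ Van q τ v := by
    intro T v
    constructor
    · rintro ⟨v', rfl⟩
      rw [show v' ≫ e' = (v' ≫ U.ι) ≫ e from (Category.assoc _ _ _).symm,
        ← van_bc q τ (IsPullback.of_hasPullback q e), ← hU]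
      rintro _ ⟨t, rfl⟩
      exact (v' t).2
    · intro h
      obtain ⟨w, rfl⟩ := (he4 T v).2 (by rw [Category.comp_id]; exact PX_zero_of_van q τ hfl v h)
      have hr := (hU w).2 ((van_bc q τ (IsPullback.of_hasPullback q e) w).2 h)
      refine ⟨IsOpenImmersion.lift U.ι w (by rw [Scheme.Opens.range_ι]; exact hr), ?_⟩
      rw [← Category.assoc, IsOpenImmersion.lift_fac]
  haveI : IsProper e' := by
    refine IsProper.of_valuativeCriterion e' (ValuativeCriterion.iff.2 ⟨fun C => ?_, fun C => ?_⟩)
    · obtain ⟨l, hl⟩ := (huniv _ C.i₂).2 (van_valuation q τ hfl C.i₂ ((huniv _ _).1 ⟨C.i₁, C.commSq.w⟩))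
      exact CommSq.HasLift.mk'
        { l := l
          fac_left := by rw [← cancel_mono e', Category.assoc, hl]; exact C.commSq.w.symm
          fac_right := hl }
    · exact ⟨fun a b => CommSq.LiftStruct.ext (by rw [← cancel_mono e', a.fac_right, b.fac_right])⟩
  haveI : IsClosedImmersion e' := (IsClosedImmersion.iff_isProper_and_mono e').2 ⟨inferInstance, inferInstance⟩
  refine ⟨U, e', inferInstance, fun T v => ?_⟩
  rw [Category.comp_id]
  exact huniv T v

/-- Arbitrary quasi-coherent sources over an affine base. -/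
theorem repClosed_affine {A : Type u} [CommRing A] (q : Y ⟶ Spec (CommRingCat.of A)) [IsProper q]
    [LocallyOfFinitePresentation q] {G F : Y.Modules} (σ : G ⟶ F) [Coh.IsQCoh G] [Coh.IsQCoh F]
    (hF : CohB1.IsFP F) (hfl : FlatMod.IsFlatOver q F) :
    RepClosed (Van q σ) (𝟙 (Spec (CommRingCat.of A))) := by
  haveI : CompactSpace Y := QuasiCompact.compactSpace_of_compactSpace q
  haveI : QuasiSeparatedSpace Y := quasiSeparatedSpace_of_quasiSeparated q
  exact repClosed_inter (fun k : {p : Σ M : Y.Modules, (M ⟶ G) // Coh.IsQCoh p.1 ∧ CohB1.IsFT p.1} =>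
    Van q (k.1.2 ≫ σ)) _ _ (fun T u => van_iff_sub q σ u) fun k => by
      haveI := k.2.1
      exact repClosed_ft q (k.1.2 ≫ σ) k.2.2 hF hfl

/-- The vanishing locus. -/
theorem exists_closed_vanishing [IsProper q] [LocallyOfFinitePresentation q] {G F : Y.Modules} (σ : G ⟶ F)
    [Coh.IsQCoh G] [Coh.IsQCoh F] (hF : CohB1.IsFP F) (hfl : FlatMod.IsFlatOver q F) :
    RepClosed (Van q σ) (𝟙 S) := by
  refine repClosed_glue (Van q σ) (van_comp q σ) (van_loc q σ) fun V => ?_
  let a := V.2.fromSpec
  let q' := pullback.snd q a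
  let g' := pullback.fst q a
  haveI : IsProper q' := MorphismProperty.pullback_snd _ _ ‹IsProper q›
  haveI : LocallyOfFinitePresentation q' := MorphismProperty.pullback_snd _ _ ‹LocallyOfFinitePresentation q›
  haveI := PullbackMod.isQCoh_pullback g' G
  haveI := PullbackMod.isQCoh_pullback g' F
  obtain ⟨Z, e, he, h⟩ := repClosed_affine (A := Γ(S, V.1)) q' ((Scheme.Modules.pullback g').map σ)
    (PullbackMod.isFP_pullback _ F hF)
    (fun x => PullbackMod.isFlatOverAt_baseChange (IsPullback.of_hasPullback q a) F x (hfl _))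
  haveI := he
  refine ⟨Z, e ≫ V.2.isoSpec.inv, inferInstance, fun T v => ?_⟩
  have hv : v ≫ V.1.ι = (v ≫ V.2.isoSpec.hom) ≫ a := by simp [a, IsAffineOpen.isoSpec_hom]
  rw [hv, ← van_bc q σ (IsPullback.of_hasPullback q a)]
  refine Iff.trans ?_ ((h T (v ≫ V.2.isoSpec.hom)).trans (by rw [Category.comp_id]))
  constructor
  · rintro ⟨v', rfl⟩
    exact ⟨v', by simp⟩
  · rintro ⟨v', hv'⟩
    exact ⟨v', by rw [← Category.assoc, hv', Category.assoc, Iso.hom_inv_id, Category.comp_id]⟩

end Groth.Agent.RhoVan
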