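import Groth.Agent.SuppHHLib.Basic
import Groth.Agent.GenRankLib.FactorBasis
import Groth.Agent.S9819
import Mathlib.AlgebraicGeometry.IdealSheaf.Functorial

/-!
The condition that the pullback of a map of modules along a base change vanishes.
-/

set_option autoImplicit false
set_option backward.isDefEq.respectTransparency false
set_option linter.style.haveILetI false

universe u

open CategoryTheory CategoryTheory.Limits AlgebraicGeometry TopologicalSpace Opposite
open Groth.Agent.PullbackMod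

noncomputable section

namespace Groth.Agent.RhoVan

variable {Y S : Scheme.{u}} (q : Y ⟶ S) {G F : Y.Modules} (σ : G ⟶ F)

/-- The pullback of `σ` along the base change by `u` vanishes. -/
def Van ⦃T : Scheme.{u}⦄ (u : T ⟶ S) : Prop := (Scheme.Modules.pullback (pullback.fst q u)).map σ = 0

theorem map_comp_zero_iff {A B C : Scheme.{u}} (a : A ⟶ B) (b : B ⟶ C) {M N : C.Modules} (φ : M ⟶ N) :
    (Scheme.Modules.pullback (a ≫ b)).map φ = 0 ↔
      (Scheme.Modules.pullback a).map ((Scheme.Modules.pullback b).map φ) = 0 := by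
  let η := Scheme.Modules.pullbackComp a b
  have h := η.hom.naturality φ
  constructor
  · intro h0
    rw [h0, comp_zero] at h
    exact (cancel_mono (η.hom.app N)).1 (h.trans zero_comp.symm)
  · intro h0
    rw [show (Scheme.Modules.pullback b ⋙ Scheme.Modules.pullback a).map φ = 0 from h0, zero_comp] at h
    exact (cancel_epi (η.hom.app M)).1 (h.symm.trans comp_zero.symm)

theorem map_zero_of_comp {A B C : Scheme.{u}} (a : A ⟶ B) (b : B ⟶ C) {M N : C.Modules} (φ : M ⟶ N)
    (h : (Scheme.Modules.pullback b).map φ = 0) : (Scheme.Modules.pullback (a ≫ b)).map φ = 0 := by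
  haveI : (Scheme.Modules.pullback a).IsLeftAdjoint :=
    (Scheme.Modules.pullbackPushforwardAdjunction _).isLeftAdjoint
  rw [map_comp_zero_iff, h, Functor.map_zero]

theorem van_iff {T Y' : Scheme.{u}} {g' : Y' ⟶ Y} {f' : Y' ⟶ T} {u : T ⟶ S} (h : IsPullback g' f' q u) :
    Van q σ u ↔ (Scheme.Modules.pullback g').map σ = 0 := by
  constructor
  · intro h0
    rw [← h.isoPullback_hom_fst]
    exact map_zero_of_comp _ _ σ h0
  · intro h0
    show (Scheme.Modules.pullback (pullback.fst q u)).map σ = 0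
    rw [← h.isoPullback_inv_fst]
    exact map_zero_of_comp _ _ σ h0

theorem van_bc {S' Y' : Scheme.{u}} {g : S' ⟶ S} {g' : Y' ⟶ Y} {q' : Y' ⟶ S'} (sq : IsPullback g' q' q g)
    ⦃T : Scheme.{u}⦄ (u : T ⟶ S') :
    Van q' ((Scheme.Modules.pullback g').map σ) u ↔ Van q σ (u ≫ g) := by
  rw [van_iff q σ ((IsPullback.of_hasPullback q' u).paste_horiz sq), map_comp_zero_iff]
  rfl

theorem van_comp ⦃T' T : Scheme.{u}⦄ (a : T' ⟶ T) (u : T ⟶ S) (h : Van q σ u) : Van q σ (a ≫ u) := by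
  let m : pullback q (a ≫ u) ⟶ pullback q u :=
    pullback.lift (pullback.fst q (a ≫ u)) (pullback.snd q (a ≫ u) ≫ a) (by rw [pullback.condition, Category.assoc])
  show (Scheme.Modules.pullback (pullback.fst q (a ≫ u))).map σ = 0
  rw [show pullback.fst q (a ≫ u) = m ≫ pullback.fst q u from (pullback.lift_fst _ _ _).symm]
  exact map_zero_of_comp _ _ σ h

theorem stalkLin_eq_zero_of_restrict {X : Scheme.{u}} (U : X.Opens) {M N : X.Modules} (φ : M ⟶ N)
    (h : (Scheme.Modules.pullback U.ι).map φ = 0) (y : X) (hy : y ∈ U) : stalkLin φ y = 0 := by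
  let η := Scheme.Modules.restrictFunctorIsoPullback U.ι
  have h1 : (Scheme.Modules.restrictFunctor U.ι).map φ = 0 := by
    have hn := η.hom.naturality φ
    rw [h, comp_zero] at hn
    exact (cancel_mono (η.hom.app N)).1 (hn.trans zero_comp.symm)
  let θ := Scheme.Modules.restrictStalkNatIso U.ι ⟨y, hy⟩
  have hn := θ.hom.naturality φ
  have h2 : (Scheme.Modules.restrictFunctor U.ι ⋙ Scheme.Modules.toPresheaf (U : Scheme.{u}) ⋙
      TopCat.Presheaf.stalkFunctor AddCommGrpCat.{u} (X := (U : Scheme.{u}).toPresheafedSpace.carrier) ⟨y, hy⟩).map φ = 0 := by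
    rw [Functor.comp_map, h1, Functor.map_zero]
  rw [h2, zero_comp] at hn
  have h3 := (cancel_epi (θ.hom.app M)).1 (hn.symm.trans comp_zero.symm)
  exact LinearMap.ext fun z => congr(($h3) z)

theorem van_loc ⦃T : Scheme.{u}⦄ (u : T ⟶ S) (h : ∀ t : T, ∃ W : T.Opens, t ∈ W ∧ Van q σ (W.ι ≫ u)) :
    Van q σ u := by
  refine (eq_zero_iff_stalk _).2 fun y => ?_
  obtain ⟨W, htW, hW⟩ := h (pullback.snd q u y)
  let P := (pullback.snd q u) ⁻¹ᵁ W
  refine stalkLin_eq_zero_of_restrict P _ ?_ y htW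
  rw [← map_comp_zero_iff, ← van_iff q σ
    ((isPullback_morphismRestrict (pullback.snd q u) W).flip.paste_horiz (IsPullback.of_hasPullback q u))]
  exact hW

/-- A property represented by a closed subscheme. -/
def RepClosed (P : ∀ ⦃T : Scheme.{u}⦄, (T ⟶ S) → Prop) {V : Scheme.{u}} (i : V ⟶ S) : Prop :=
  ∃ (Z : Scheme.{u}) (e : Z ⟶ V), IsClosedImmersion e ∧
    ∀ (T : Scheme.{u}) (v : T ⟶ V), (∃ v' : T ⟶ Z, v' ≫ e = v) ↔ P (v ≫ i)

/-- Closed representability is local on the base. -/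
theorem repClosed_glue (P : ∀ ⦃T : Scheme.{u}⦄, (T ⟶ S) → Prop)
    (hcomp : ∀ ⦃T' T : Scheme.{u}⦄ (a : T' ⟶ T) (u : T ⟶ S), P u → P (a ≫ u))
    (hloc : ∀ ⦃T : Scheme.{u}⦄ (u : T ⟶ S), (∀ t : T, ∃ W : T.Opens, t ∈ W ∧ P (W.ι ≫ u)) → P u)
    (h : ∀ V : S.affineOpens, RepClosed P V.1.ι) : RepClosed P (𝟙 S) := by
  let G : Set S.affineOpens := Set.univ
  have hG : Opens.IsBasis ((fun V => V.1) '' G) := by
    refine Opens.isBasis_iff_nbhd.2 fun {U x} hx => ?_
    obtain ⟨_, ⟨W, hW, rfl⟩, hxW, hWU⟩ := S.isBasis_affineOpens.exists_subset_of_mem_open hx U.isOpen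
    exact ⟨W, ⟨⟨W, hW⟩, trivial, rfl⟩, hxW, hWU⟩
  choose Z e h1 h2 using fun V : G => h V.1
  haveI := fun V => h1 V
  obtain ⟨Y', j, hj, hpb, huniv⟩ := FactorBasis.exists_glued G hG P hcomp hloc Z e (fun V => inferInstance) h2
  refine ⟨Y', j, FactorBasis.of_pieces G hG Z e @IsClosedImmersion j hpb h1, fun T v => ?_⟩
  rw [Category.comp_id]
  exact huniv T v

/-- Intersections of closed subschemes. -/
theorem repClosed_inter {ι : Type*} (P : ι → ∀ ⦃T : Scheme.{u}⦄, (T ⟶ S) → Prop)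
    (Q : ∀ ⦃T : Scheme.{u}⦄, (T ⟶ S) → Prop) {V : Scheme.{u}} (i : V ⟶ S)
    (hQ : ∀ (T : Scheme.{u}) (u : T ⟶ S), Q u ↔ ∀ k, P k u) (h : ∀ k, RepClosed (P k) i) : RepClosed Q i := by
  choose Z e h1 h2 using h
  haveI := h1
  let J : V.IdealSheafData := ⨆ k, (e k).ker
  refine ⟨J.subscheme, J.subschemeι, inferInstance, fun T v => ?_⟩
  rw [hQ]
  constructor
  · rintro ⟨v', rfl⟩ k
    refine (h2 k T _).1 ⟨IsClosedImmersion.lift (e k) (v' ≫ J.subschemeι) ?_, IsClosedImmersion.lift_fac _ _ _⟩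
    refine (le_iSup (fun k => (e k).ker) k).trans ?_
    exact J.ker_subschemeι.ge.trans (Scheme.Hom.le_ker_comp _ _)
  · intro hk
    refine ⟨IsClosedImmersion.lift J.subschemeι v ?_, IsClosedImmersion.lift_fac _ _ _⟩
    rw [Scheme.IdealSheafData.ker_subschemeι]
    refine iSup_le fun k => ?_
    obtain ⟨w, rfl⟩ := (h2 k T v).2 (hk k)
    exact Scheme.Hom.le_ker_comp _ _

/-- Vanishing may be tested on the submodules of finite type. -/
theorem van_iff_sub [CompactSpace Y] [QuasiSeparatedSpace Y] [Coh.IsQCoh G] :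
    ∀ ⦃T : Scheme.{u}⦄ (u : T ⟶ S), Van q σ u ↔
      ∀ k : {p : Σ M : Y.Modules, (M ⟶ G) // Coh.IsQCoh p.1 ∧ CohB1.IsFT p.1}, Van q (k.1.2 ≫ σ) u := by
  intro T u
  let g := pullback.fst q u
  let adj := Scheme.Modules.pullbackPushforwardAdjunction g
  haveI : (Scheme.Modules.pullback g).IsLeftAdjoint := adj.isLeftAdjoint
  have key : ∀ {M : Y.Modules} (φ : M ⟶ F),
      (Scheme.Modules.pullback g).map φ = 0 ↔ φ ≫ adj.unit.app F = 0 := fun {M} φ => by
    rw [show φ ≫ adj.unit.app F = adj.unit.app M ≫ (Scheme.Modules.pushforward g).map ((Scheme.Modules.pullback g).map φ)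
        from adj.unit.naturality φ]
    constructor
    · intro h
      rw [h, Functor.map_zero, comp_zero]
    · intro h
      apply (adj.homEquiv _ _).injective
      rw [Adjunction.homEquiv_unit, h, Adjunction.homEquiv_unit, Functor.map_zero, comp_zero]
  constructor
  · intro h k
    show (Scheme.Modules.pullback g).map (k.1.2 ≫ σ) = 0
    rw [Functor.map_comp, show (Scheme.Modules.pullback g).map σ = 0 from h, comp_zero]
  · intro h
    refine (key σ).2 ((eq_zero_iff_stalk _).2 fun y => LinearMap.ext fun z => ?_)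
    obtain ⟨U, hyU, s, rfl⟩ := TopCat.Presheaf.exists_germ_eq G.presheaf z
    obtain ⟨_, ⟨W : Y.Opens, (hW : IsAffineOpen W), rfl⟩, hyW, hWU⟩ :=
      Y.isBasis_affineOpens.exists_subset_of_mem_open hyU U.isOpen
    obtain ⟨M, i, -, hMq, hMf, m, hm⟩ := S9819.result G ⟨W, hW⟩ (G.presheaf.map (homOfLE hWU).op s)
    rw [← G.presheaf.germ_res_apply (homOfLE hWU) y hyW s]
    have h0 : stalkLin (i ≫ σ ≫ adj.unit.app F) y = 0 := by
      rw [show i ≫ σ ≫ adj.unit.app F = 0 from (Category.assoc _ _ _).symm.trans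
        ((key (i ≫ σ)).1 (h ⟨⟨M, i⟩, hMq, hMf⟩))]
      exact DevLib.stalkLin_zero y
    refine Eq.trans (congrArg (stalkLin _ y)
      ((stalkLin_germ i y hyW m).trans (congrArg (G.presheaf.germ W y hyW) hm)).symm) ?_
    exact (congr(($(stalkLin_comp i (σ ≫ adj.unit.app F) y)) (M.presheaf.germ W y hyW m))).symm.trans
      (LinearMap.congr_fun h0 _)

end Groth.Agent.RhoVan
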